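import Cfsg.Agent.Lib.Helper5.F7.H17.FrCDefs
import Cfsg.Agent.Lib.Helper5.F7.H23.FrCA3
import Cfsg.Agent.Lib.Helper5.F7.H23.FrCA4

/-!
CORE13 (S5679 + S5696, helper17's market), block A: leaf A5 `allB_of_special` in core form
(A1 `sp_add_eq_one` and A2 `sp_facts` as hypotheses).
-/

set_option autoImplicit false
set_option linter.unusedSectionVars false
set_option linter.unusedVariables false
set_option linter.unusedSimpArgs false

namespace Cfsg.Agent.Lib.Helper5.F7.H23.FrCLeaf

open Module QuadraticMap Matrix Cfsg.Agent.Lib.Helper25.CD Cfsg.Agent.Lib.Helper25.Spin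
  Cfsg.Agent.Lib.Helper5.NSMax Cfsg.Agent.Lib.Helper5.PairMax Cfsg.Agent.Lib.Helper17.OC2
  Cfsg.Agent.Lib.Helper29.FrStd Cfsg.Agent.Lib.Helper11.Mono Cfsg.Agent.Lib.Helper5.F7.H17.FrC

variable {κ : Type} [Fintype κ] [DecidableEq κ] {F : Type*} [Field F] [Fintype F]
  {c : F} {M : Subgroup ↥(Cfsg.isometryGroup F ⇑(stdQ κ F c))}

theorem frc_sum_sq_supp (a : κ → F) : ∑ l, a l ^ 2 = ∑ l ∈ supp a, a l ^ 2 := by
  symm
  apply Finset.sum_subset (Finset.subset_univ _)
  intro l _ hl
  have : a l = 0 := by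
    by_contra h
    exact hl (mem_supp.2 h)
  rw [this]
  ring

theorem frc_dot_self (a : κ → F) : a ⬝ᵥ a = ∑ l, a l ^ 2 := by
  unfold dotProduct
  apply Finset.sum_congr rfl
  intro l _
  ring

theorem frc_e_dot (i : κ) (a : κ → F) : (e i : κ → F) ⬝ᵥ a = a i := by
  unfold e
  rw [single_dotProduct, one_mul]

/-- A5 in core form -/
theorem allB_of_special_core (hp : (Fintype.card F).Prime) (h11 : 11 ≤ Fintype.card F)
    (hκ : Fintype.card κ = 7)
    (hA1 : ∀ x y : F, Sp x → Sp y → x + y = 1 →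
      (x = 0 ∧ y = 1) ∨ (x = 1 ∧ y = 0) ∨ (2 * x = 1 ∧ 2 * y = 1))
    (hA2 : (∀ x : F, 16 * x = 1 → ¬ Sp x) ∧ (∀ x : F, 8 * x = 1 → ¬ Sp x) ∧
      (∀ x : F, 16 * x ^ 2 - 12 * x + 1 = 0 → ¬ Sp (2 * x)) ∧
      (∀ x : F, 16 * x ^ 2 - 12 * x + 1 = 0 → Sp (4 * x ^ 2) → 4 * x ^ 2 = 1) ∧
      (∀ x y : F, 16 * x ^ 2 - 12 * x + 1 = 0 → 16 * y ^ 2 - 12 * y + 1 = 0 → x ≠ y → 4 * x + 4 * y = 3))
    {R : (κ → F) → Prop} (hS : Sys R) (h1 : ∀ b, R b → ∀ i, Sp (b i ^ 2))
    (h0 : ∀ b, R b → ∀ T : Finset κ, (∃ l ∈ T, b l ≠ 0) → (∃ l, l ∉ T ∧ b l ≠ 0) → ∑ l ∈ T, b l ^ 2 ≠ 0) :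
    ∀ a, R a → IsB a := by
  classical
  intro a ha
  have n2 : (2 : F) ≠ 0 := by
    exact_mod_cast frc_natCast_ne_zero (F := F) hp h11 (m := 2) (by norm_num) (by norm_num)
  have hsum : ∑ l, a l ^ 2 = 1 := by rw [← frc_dot_self, hS.unit a ha]
  have hsum' := hsum
  rw [frc_sum_sq_supp] at hsum'
  rcases lt_or_ge (supp a).card 3 with hlt | hge
  · have hcases : (supp a).card = 0 ∨ (supp a).card = 1 ∨ (supp a).card = 2 := by omega
    rcases hcases with h | h | h
    · rw [Finset.card_eq_zero] at h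
      rw [h, Finset.sum_empty] at hsum'
      exact absurd hsum' zero_ne_one
    · obtain ⟨i, hi⟩ := Finset.card_eq_one.1 h
      rw [hi, Finset.sum_singleton] at hsum'
      have hz : ∀ l, l ≠ i → a l = 0 := by
        intro l hl
        by_contra hne
        have := mem_supp.2 hne
        rw [hi, Finset.mem_singleton] at this
        exact hl this
      have h2 : (a i - 1) * (a i + 1) = 0 := by linear_combination hsum'
      left
      refine ⟨i, ?_⟩
      rcases mul_eq_zero.1 h2 with h3 | h3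
      · left
        ext l
        by_cases hl : l = i
        · subst hl
          simp only [e, Pi.single_eq_same]
          linear_combination h3
        · rw [hz l hl]
          simp [e, hl]
      · right
        ext l
        by_cases hl : l = i
        · subst hl
          simp only [e, Pi.neg_apply, Pi.single_eq_same]
          linear_combination h3
        · rw [hz l hl]
          simp [e, hl]
    · obtain ⟨i, j, hij, hsupp⟩ := Finset.card_eq_two.1 h
      rw [hsupp, Finset.sum_pair hij] at hsum'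
      have hi0 : a i ≠ 0 := mem_supp.1 (by rw [hsupp]; simp)
      have hj0 : a j ≠ 0 := mem_supp.1 (by rw [hsupp]; simp)
      have hz : ∀ l, l ≠ i → l ≠ j → a l = 0 := by
        intro l hl hl'
        by_contra hne
        have := mem_supp.2 hne
        rw [hsupp, Finset.mem_insert, Finset.mem_singleton] at this
        rcases this with h | h
        · exact hl h
        · exact hl' h
      right
      rcases hA1 _ _ (h1 a ha i) (h1 a ha j) hsum' with ⟨hx, -⟩ | ⟨-, hy⟩ | ⟨hx, hy⟩
      · exact absurd (pow_eq_zero_iff (by norm_num) |>.1 hx) hi0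
      · exact absurd (pow_eq_zero_iff (by norm_num) |>.1 hy) hj0
      · exact ⟨i, j, hij, hx, hy, hz⟩
  · exfalso
    have hsq0 : ∀ l, a l ^ 2 ≠ 0 ↔ a l ≠ 0 := fun l => by
      rw [Ne, Ne, pow_eq_zero_iff (by norm_num)]
    have hsuppeq : supp (fun l => a l ^ 2) = supp a := by
      ext l
      rw [mem_supp, mem_supp]
      exact hsq0 l
    have hpair : ∀ i l, i ≠ l → a i ^ 2 ≠ 0 → a l ^ 2 ≠ 0 →
        Sp (4 * a i ^ 2 * a l ^ 2) ∧ 4 * a i ^ 2 * a l ^ 2 ≠ 1 := by
      intro i l hne hi hl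
      have hi' := (hsq0 i).1 hi
      have hl' := (hsq0 l).1 hl
      have hr := hS.refl (e i) a (hS.frame i) ha
      rw [frc_e_dot] at hr
      set r : κ → F := e i - (2 * a i) • a with hrdef
      have hrm : ∀ m, m ≠ i → r m = -(2 * a i * a m) := by
        intro m hm
        simp [hrdef, e, hm]
      have hrl : r l ^ 2 = 4 * a i ^ 2 * a l ^ 2 := by
        rw [hrm l (Ne.symm hne)]
        ring
      refine ⟨by rw [← hrl]; exact h1 _ hr l, ?_⟩
      intro h4
      have hrunit := hS.unit _ hr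
      rw [frc_dot_self] at hrunit
      have hT : ∑ m ∈ Finset.univ.erase l, r m ^ 2 = 0 := by
        have := Finset.add_sum_erase Finset.univ (fun m => r m ^ 2) (Finset.mem_univ l)
        rw [hrunit, hrl, h4] at this
        linear_combination this
      have hrl0 : r l ≠ 0 := by
        intro h
        rw [h] at hrl
        rw [← hrl] at h4
        norm_num at h4
      have hall : ∀ m, m ≠ l → r m = 0 := by
        intro m hm
        by_contra hne'
        exact h0 _ hr (Finset.univ.erase l) ⟨m, Finset.mem_erase.2 ⟨hm, Finset.mem_univ _⟩, hne'⟩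
          ⟨l, by simp, hrl0⟩ hT
      -- a third support index
      have hcard : 0 < (((supp a).erase i).erase l).card := by
        have h1' := Finset.pred_card_le_card_erase (s := supp a) (a := i)
        have h2' := Finset.pred_card_le_card_erase (s := (supp a).erase i) (a := l)
        omega
      obtain ⟨m, hm⟩ := Finset.card_pos.1 hcard
      rw [Finset.mem_erase, Finset.mem_erase] at hm
      obtain ⟨hml, hmi, hms⟩ := hm
      have := hall m hml
      rw [hrm m hmi] at this
      have h5 : 2 * (a i * a m) = 0 := by linear_combination (-1 : F) * this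
      rcases mul_eq_zero.1 h5 with h6 | h6
      · exact n2 h6
      · rcases mul_eq_zero.1 h6 with h7 | h7
        · exact hi' h7
        · exact (mem_supp.1 hms) h7
    have hfree : ∀ T : Finset κ, (∃ l ∈ T, a l ^ 2 ≠ 0) → (∃ l, l ∉ T ∧ a l ^ 2 ≠ 0) →
        ∑ l ∈ T, a l ^ 2 ≠ 0 := by
      intro T ⟨l, hl, hl0⟩ ⟨l', hl', hl'0⟩
      exact h0 a ha T ⟨l, hl, (hsq0 l).1 hl0⟩ ⟨l', hl', (hsq0 l').1 hl'0⟩
    have htypes := special_types_core hp h11 hA2 (fun l => a l ^ 2) hsum (by rw [hsuppeq]; exact hge)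
      (fun l => h1 a ha l) hpair hfree
    apply special_kill_core hA2.1 hκ hS h1 ha
    have hz : ∀ l, a l ^ 2 = 0 → a l = 0 := fun l h => (pow_eq_zero_iff (by norm_num)).1 h
    rcases htypes with ⟨S, hScard, hSQ, hSz⟩ | ⟨i, j, k, hij, hik, hjk, hi, hj, hk, hzz⟩ |
      ⟨i, j, k, hij, hik, hjk, hi, hjk16, hjk3, hzz⟩
    · left
      exact ⟨S, hScard, hSQ, fun l hl => hz l (hSz l hl)⟩
    · right; left
      exact ⟨i, j, k, hij, hik, hjk, hi, hj, hk, fun l h1' h2' h3' => hz l (hzz l h1' h2' h3')⟩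
    · right; right
      exact ⟨i, j, k, hij, hik, hjk, hi, hjk16, hjk3, fun l h1' h2' h3' => hz l (hzz l h1' h2' h3')⟩

end Cfsg.Agent.Lib.Helper5.F7.H23.FrCLeaf
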